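import Mathlib.Algebra.Category.ModuleCat.Colimits
import Mathlib.Algebra.Category.ModuleCat.Abelian
import Mathlib.Algebra.Homology.ShortComplex.ExactFunctor
import Mathlib.Algebra.Homology.ShortComplex.ModuleCat
import Mathlib.LinearAlgebra.TensorProduct.RightExactness

set_option autoImplicit false

universe u

open CategoryTheory CategoryTheory.Limits TensorProduct

namespace Groth.Agent.EW72

variable {A B : Type u} [CommRing A] [CommRing B] (F : ModuleCat.{u} A ⥤ ModuleCat.{u} B)
  [F.Additive]

/-- The value of `F` at the ring, regarded as a bimodule. -/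
def Ker : Type u := F.obj (ModuleCat.of A A)

noncomputable instance : AddCommGroup (Ker F) :=
  inferInstanceAs (AddCommGroup (F.obj (ModuleCat.of A A)))

noncomputable instance : Module B (Ker F) :=
  inferInstanceAs (Module B (F.obj (ModuleCat.of A A)))

noncomputable def action : A →+* Module.End B (F.obj (ModuleCat.of A A)) where
  toFun a := (F.map (a • 𝟙 (ModuleCat.of A A))).hom
  map_one' := by rw [one_smul, F.map_id]; rfl
  map_mul' a b := by
    rw [show (a * b) • 𝟙 (ModuleCat.of A A) = (b • 𝟙 _) ≫ (a • 𝟙 _) by simp [smul_smul],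
      F.map_comp]
    rfl
  map_zero' := by rw [zero_smul, F.map_zero]; rfl
  map_add' a b := by rw [add_smul, F.map_add]; rfl

noncomputable instance : Module A (Ker F) := Module.compHom (F.obj (ModuleCat.of A A)) (action F)

theorem smul_def (a : A) (x : Ker F) :
    a • x = ((F.map (a • 𝟙 (ModuleCat.of A A))).hom x : F.obj (ModuleCat.of A A)) := rfl

instance : SMulCommClass A B (Ker F) :=
  ⟨fun a b x => ((F.map (a • 𝟙 (ModuleCat.of A A))).hom).map_smul b x⟩

noncomputable def spanMap (M : ModuleCat.{u} A) (m : M) : ModuleCat.of A A ⟶ M :=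
  ModuleCat.ofHom (LinearMap.toSpanSingleton A M m)

theorem spanMap_comp {M N : ModuleCat.{u} A} (m : M) (f : M ⟶ N) :
    spanMap M m ≫ f = spanMap N (f.hom m) := by
  ext; simp [spanMap]

theorem spanMap_add {M : ModuleCat.{u} A} (m m' : M) :
    spanMap M (m + m') = spanMap M m + spanMap M m' := by
  ext; simp [spanMap]

theorem spanMap_smul {M : ModuleCat.{u} A} (a : A) (m : M) :
    spanMap M (a • m) = (a • 𝟙 (ModuleCat.of A A)) ≫ spanMap M m := by
  ext; simp [spanMap]

/-- The comparison pairing. -/
noncomputable def pairing (M : ModuleCat.{u} A) : Ker F →+ M →+ F.obj M :=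
  AddMonoidHom.mk'
    (fun x => AddMonoidHom.mk' (fun m => (F.map (spanMap M m)).hom x)
      (fun m m' => by rw [spanMap_add, F.map_add]; rfl))
    (fun x y => by ext m; exact (F.map (spanMap M m)).hom.map_add x y)

noncomputable def etaAdd (M : ModuleCat.{u} A) : Ker F ⊗[A] M →+ F.obj M :=
  TensorProduct.liftAddHom (pairing F M) fun a x m => by
    show (F.map (spanMap M m)).hom ((F.map (a • 𝟙 (ModuleCat.of A A))).hom x) =
      (F.map (spanMap M (a • m))).hom x
    rw [spanMap_smul, F.map_comp]
    rfl

noncomputable def eta (M : ModuleCat.{u} A) : Ker F ⊗[A] M →ₗ[B] F.obj M :=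
  { etaAdd F M with
    map_smul' := fun b z => by
      induction z using TensorProduct.induction_on with
      | zero => simp
      | tmul x m =>
        rw [TensorProduct.smul_tmul']
        exact ((F.map (spanMap M m)).hom).map_smul b x
      | add y z hy hz =>
        simp only [ZeroHom.toFun_eq_coe, AddMonoidHom.toZeroHom_coe,
          RingHom.id_apply] at *
        rw [smul_add, map_add, hy, hz, map_add, smul_add] }

theorem eta_tmul (M : ModuleCat.{u} A) (x : Ker F) (m : M) :
    eta F M (x ⊗ₜ m) = (F.map (spanMap M m)).hom x := rfl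

theorem eta_natural {M N : ModuleCat.{u} A} (f : M ⟶ N) (z : Ker F ⊗[A] M) :
    eta F N (LinearMap.lTensor (Ker F) f.hom z) = (F.map f).hom (eta F M z) := by
  induction z using TensorProduct.induction_on with
  | zero => simp
  | tmul x m =>
    rw [LinearMap.lTensor_tmul, eta_tmul, eta_tmul, ← spanMap_comp, F.map_comp]
    rfl
  | add y z hy hz => rw [map_add, map_add, hy, hz, map_add, map_add]

theorem eta_bijective_free [∀ J : Type u, PreservesColimitsOfShape (Discrete J) F] (ι : Type u) :
    Function.Bijective (eta F (ModuleCat.of A (ι →₀ A))) := by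
  classical
  let hc := isColimitOfPreserves F (ModuleCat.finsuppCoconeIsColimit A A ι)
  let leg : ι → Ker F →ₗ[B] Ker F ⊗[A] (ι →₀ A) := fun i =>
    { toFun := fun x => x ⊗ₜ Finsupp.single i (1 : A)
      map_add' := fun x y => add_tmul x y _
      map_smul' := fun b x => (TensorProduct.smul_tmul' b x _).symm }
  let s : Cocone ((Discrete.functor fun _ : ι => ModuleCat.of A A) ⋙ F) :=
    { pt := ModuleCat.of B (Ker F ⊗[A] (ι →₀ A))
      ι := Discrete.natTrans fun i => ModuleCat.ofHom (leg i.as) }
  let inv := hc.desc s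
  have hfac : ∀ (i : ι) (x : Ker F),
      inv.hom (eta F (ModuleCat.of A (ι →₀ A)) (x ⊗ₜ Finsupp.single i (1 : A))) =
        x ⊗ₜ Finsupp.single i (1 : A) := by
    intro i x
    have h1 := congrArg (fun k => k.hom x) (hc.fac s ⟨i⟩)
    have h2 : spanMap (ModuleCat.of A (ι →₀ A)) (Finsupp.single i (1 : A)) =
        ModuleCat.ofHom (Finsupp.lsingle i) := by
      ext; simp [spanMap]
    rw [eta_tmul, h2]
    exact h1
  have left : ∀ z, inv.hom (eta F (ModuleCat.of A (ι →₀ A)) z) = z := by
    intro z
    induction z using TensorProduct.induction_on with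
    | zero =>
      rw [map_zero]
      exact inv.hom.map_zero
    | tmul x v =>
      induction v using Finsupp.induction_linear with
      | zero =>
        rw [tmul_zero, map_zero]
        exact inv.hom.map_zero
      | add v w hv hw =>
        rw [tmul_add, map_add]
        exact (inv.hom.map_add _ _).trans (by rw [hv, hw])
      | single i a =>
        rw [show Finsupp.single i a = a • Finsupp.single i (1 : A) by simp, tmul_smul,
          TensorProduct.smul_tmul']
        exact hfac i (a • x)
    | add y z hy hz =>
      rw [map_add]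
      exact (inv.hom.map_add _ _).trans (by rw [hy, hz])
  refine ⟨Function.LeftInverse.injective left, fun y => ⟨inv.hom y, ?_⟩⟩
  have h3 : inv ≫ ModuleCat.ofHom (eta F (ModuleCat.of A (ι →₀ A))) = 𝟙 _ := by
    refine hc.hom_ext fun ⟨i⟩ => ?_
    refine (Category.assoc _ _ _).symm.trans (Eq.trans (congrArg (· ≫ _) (hc.fac s ⟨i⟩))
      (Eq.trans ?_ (Category.comp_id _).symm))
    ext x
    show eta F (ModuleCat.of A (ι →₀ A)) (x ⊗ₜ Finsupp.single i (1 : A)) = _
    show (F.map (spanMap (ModuleCat.of A (ι →₀ A)) (Finsupp.single i (1 : A)))).hom x = (F.map _).hom x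
    congr 2
    apply congrArg F.map
    ext
    simp [spanMap]
    rfl
  exact congrArg (fun k => k.hom y) h3

theorem eta_bijective [PreservesFiniteColimits F]
    [∀ J : Type u, PreservesColimitsOfShape (Discrete J) F] (M : ModuleCat.{u} A) :
    Function.Bijective (eta F M) := by
  let π : ModuleCat.of A (M →₀ A) ⟶ M := ModuleCat.ofHom (Finsupp.linearCombination A (id : M → M))
  have hπ : Function.Surjective π.hom := Finsupp.linearCombination_id_surjective A M
  let Kπ := LinearMap.ker π.hom
  let d : ModuleCat.of A (Kπ →₀ A) ⟶ ModuleCat.of A (M →₀ A) :=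
    ModuleCat.ofHom (Finsupp.linearCombination A (Subtype.val : Kπ → (M →₀ A)))
  have hd : Function.Exact d.hom π.hom := by
    rw [LinearMap.exact_iff]
    show LinearMap.ker π.hom = LinearMap.range (Finsupp.linearCombination A _)
    rw [Finsupp.range_linearCombination, Subtype.range_coe]
    exact (Submodule.span_eq _).symm
  let S : ShortComplex (ModuleCat.{u} A) := ShortComplex.mk d π (by
    ext x; exact hd.apply_apply_eq_zero _)
  have hS : S.Exact := (ShortComplex.ShortExact.moduleCat_exact_iff_function_exact _).mpr hd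
  have : Epi S.g := (ModuleCat.epi_iff_surjective _).mpr hπ
  have hT : PreservesFiniteColimits F := inferInstance
  have h31 : PreservesFiniteColimits F →
      ∀ (T : ShortComplex (ModuleCat.{u} A)), T.Exact ∧ Epi T.g → (T.map F).Exact ∧ Epi (F.map T.g) :=
    fun h => (((Functor.preservesFiniteColimits_tfae F).out 3 1).mp : _) h
  obtain ⟨hFS, hFe⟩ := h31 hT S ⟨hS, this⟩
  have ex' : Function.Exact (F.map d).hom (F.map π).hom :=
    (ShortComplex.ShortExact.moduleCat_exact_iff_function_exact _).mp hFS
  have surj' : Function.Surjective (F.map π).hom := (ModuleCat.epi_iff_surjective (S.map F).g).mp hFe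
  have ex : Function.Exact (LinearMap.lTensor (Ker F) d.hom) (LinearMap.lTensor (Ker F) π.hom) :=
    lTensor_exact (Ker F) hd hπ
  have surj : Function.Surjective (LinearMap.lTensor (Ker F) π.hom) :=
    LinearMap.lTensor_surjective (Ker F) hπ
  refine ⟨?_, ?_⟩
  · rw [injective_iff_map_eq_zero]
    intro z hz
    obtain ⟨w, rfl⟩ := surj z
    rw [eta_natural] at hz
    obtain ⟨v, hv⟩ := (ex' _).mp hz
    obtain ⟨v', rfl⟩ := (eta_bijective_free F Kπ).2 v
    rw [← eta_natural] at hv
    have := (eta_bijective_free F M).1 hv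
    exact (ex _).mpr ⟨v', this⟩
  · intro y
    obtain ⟨v, rfl⟩ := surj' y
    obtain ⟨v', rfl⟩ := (eta_bijective_free F M).2 v
    exact ⟨_, eta_natural F π v'⟩

noncomputable def etaEquiv [PreservesFiniteColimits F]
    [∀ J : Type u, PreservesColimitsOfShape (Discrete J) F] (M : ModuleCat.{u} A) :
    (Ker F ⊗[A] M) ≃ₗ[B] F.obj M :=
  LinearEquiv.ofBijective (eta F M) (eta_bijective F M)

theorem natTrans_ext [PreservesFiniteColimits F]
    [∀ J : Type u, PreservesColimitsOfShape (Discrete J) F]
    {G : ModuleCat.{u} A ⥤ ModuleCat.{u} B} {t t' : F ⟶ G}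
    (h : t.app (ModuleCat.of A A) = t'.app (ModuleCat.of A A)) : t = t' := by
  ext M y
  obtain ⟨z, rfl⟩ := (eta_bijective F M).2 y
  induction z using TensorProduct.induction_on with
  | zero => simp
  | tmul x m =>
    rw [eta_tmul]
    have h1 := congrArg (fun k => k.hom x) (t.naturality (spanMap M m))
    have h2 := congrArg (fun k => k.hom x) (t'.naturality (spanMap M m))
    simp only [ModuleCat.hom_comp] at h1 h2
    exact h1.trans ((congrArg (fun k => (G.map (spanMap M m)).hom (k.hom x)) h).trans h2.symm)
  | add y z hy hz => simp only [map_add, hy, hz]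

variable (F' : ModuleCat.{u} A ⥤ ModuleCat.{u} B) [F'.Additive]

theorem exists_natTrans [PreservesFiniteColimits F]
    [∀ J : Type u, PreservesColimitsOfShape (Discrete J) F]
    (φ : F.obj (ModuleCat.of A A) ⟶ F'.obj (ModuleCat.of A A))
    (hφ : ∀ a : A, F.map (a • 𝟙 (ModuleCat.of A A)) ≫ φ = φ ≫ F'.map (a • 𝟙 (ModuleCat.of A A))) :
    ∃ t : F ⟶ F', t.app (ModuleCat.of A A) = φ := by
  let φ' : Ker F →ₗ[A] Ker F' :=
    { toFun := fun x => φ.hom x
      map_add' := fun x y => φ.hom.map_add x y
      map_smul' := fun a x => congrArg (fun k => k.hom x) (hφ a) }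
  let c : ∀ M : ModuleCat.{u} A, Ker F ⊗[A] M →ₗ[B] F'.obj M := fun M =>
    { toFun := fun z => eta F' M (LinearMap.rTensor M φ' z)
      map_add' := by simp
      map_smul' := fun b z => by
        rw [RingHom.id_apply]
        have : LinearMap.rTensor M φ' (b • z) = b • LinearMap.rTensor M φ' z := by
          induction z using TensorProduct.induction_on with
          | zero => simp
          | tmul x m =>
            rw [TensorProduct.smul_tmul', LinearMap.rTensor_tmul, LinearMap.rTensor_tmul,
              TensorProduct.smul_tmul']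
            congr 1
            exact φ.hom.map_smul b x
          | add y z hy hz => simp only [smul_add, map_add, hy, hz]
        rw [this, map_smul] }
  let t : F ⟶ F' :=
    { app := fun M => ModuleCat.ofHom ((c M).comp (etaEquiv F M).symm.toLinearMap)
      naturality := fun M N f => by
        ext y
        obtain ⟨z, rfl⟩ := (eta_bijective F M).2 y
        have e1 : (etaEquiv F N).symm ((F.map f).hom (eta F M z)) =
            LinearMap.lTensor (Ker F) f.hom z := by
          rw [LinearEquiv.symm_apply_eq]; exact (eta_natural F f z).symm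
        have e2 : (etaEquiv F M).symm (eta F M z) = z := by
          rw [LinearEquiv.symm_apply_eq]; rfl
        show c N ((etaEquiv F N).symm ((F.map f).hom (eta F M z))) =
          (F'.map f).hom (c M ((etaEquiv F M).symm (eta F M z)))
        rw [e1, e2]
        show eta F' N (LinearMap.rTensor N φ' (LinearMap.lTensor (Ker F) f.hom z)) =
          (F'.map f).hom (eta F' M (LinearMap.rTensor M φ' z))
        rw [← eta_natural]
        congr 1
        rw [← LinearMap.comp_apply, ← LinearMap.comp_apply, LinearMap.rTensor_comp_lTensor,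
          LinearMap.lTensor_comp_rTensor] }
  refine ⟨t, ?_⟩
  ext x
  have e0 : spanMap (ModuleCat.of A A) (1 : A) = 𝟙 _ := by ext; simp [spanMap]
  have e3 : (etaEquiv F (ModuleCat.of A A)).symm x = (show Ker F from x) ⊗ₜ (1 : A) := by
    rw [LinearEquiv.symm_apply_eq]
    show x = eta F _ (_ ⊗ₜ (1 : A))
    rw [eta_tmul, e0, F.map_id]
    rfl
  show c _ ((etaEquiv F (ModuleCat.of A A)).symm x) = φ.hom x
  rw [e3]
  show eta F' _ (φ' _ ⊗ₜ (1 : A)) = φ.hom x
  rw [eta_tmul, e0, F'.map_id]
  rfl

end Groth.Agent.EW72
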